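import Groth.Agent.Lib.FlatCrit.Factor
import Groth.Prelude.Def_AlgSpPerf
import Mathlib.CategoryTheory.Idempotents.Basic
import Mathlib.LinearAlgebra.Basis.VectorSpace
import Mathlib.RingTheory.Finiteness.Projective

/-!
# Summands of finite free modules on a site with a final object
-/

set_option linter.style.haveILetI false

universe u

open CategoryTheory Limits Opposite

namespace Groth.Agent.Lib.StrPerf.Global

open Groth.Agent.Lib.FlatCrit.Factor

variable {C : Type u} [SmallCategory C] {J : GrothendieckTopology C} {R : Sheaf J RingCat.{u}}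
  {X : C} (hX : IsTerminal X) {M : SheafOfModules.{u} R} {n : ℕ}

variable (R X n) in
/-- The basis sections. -/
noncomputable def bas (k : Fin n) : (SheafOfModules.free (R := R) (ULift.{u} (Fin n))).val.obj (op X) :=
  ((SheafOfModules.ιFree (R := R) (ULift.up.{u} k)).val.app (op X)).hom (1 : R.obj.obj (op X))

include hX in
lemma unit_ext {ψ ψ' : SheafOfModules.unit R ⟶ M}
    (h : (ψ.val.app (op X)).hom (1 : R.obj.obj (op X)) = (ψ'.val.app (op X)).hom (1 : R.obj.obj (op X))) :
    ψ = ψ' := by
  apply M.unitHomEquiv.injective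
  refine Subtype.ext (funext fun U => ?_)
  have hnat : ∀ χ : SheafOfModules.unit R ⟶ M, (M.unitHomEquiv χ).val U =
      M.val.map (hX.from U.unop).op ((χ.val.app (op X)).hom (1 : R.obj.obj (op X))) := fun χ =>
    ((M.unitHomEquiv χ).property (hX.from U.unop).op).symm
  rw [hnat, hnat, h]

/-- The map out of the structure sheaf with a given value. -/
noncomputable def ofSec (m : M.val.obj (op X)) : SheafOfModules.unit R ⟶ M :=
  M.unitHomEquiv.symm ⟨fun U => M.val.map (hX.from U.unop).op m, fun {U V} f => by
    refine (PresheafOfModules.map_comp_apply M.val _ f m).symm.trans ?_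
    exact congrArg (fun q : op X ⟶ V => M.val.map q m) (Quiver.Hom.unop_inj (hX.hom_ext _ _))⟩

lemma ofSec_app (m : M.val.obj (op X)) :
    ((ofSec hX m).val.app (op X)).hom (1 : R.obj.obj (op X)) = m := by
  refine (congrArg (fun s => s.val (op X)) (M.unitHomEquiv.apply_symm_apply _)).trans ?_
  refine Eq.trans ?_ (congrArg (fun f => f m) (PresheafOfModules.map_id M.val _))
  exact congrArg (fun q => M.val.map q m) (Quiver.Hom.unop_inj (hX.hom_ext _ _))

include hX in
lemma free_ext {φ φ' : SheafOfModules.free (R := R) (ULift.{u} (Fin n)) ⟶ M}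
    (h : ∀ k, (φ.val.app (op X)).hom (bas R X n k) = (φ'.val.app (op X)).hom (bas R X n k)) : φ = φ' := by
  rw [← comp_free_id (𝟭 _) φ, ← comp_free_id (𝟭 _) φ']
  refine Finset.sum_congr rfl fun k _ => congrArg _ (unit_ext hX (h k.down))

/-- The map out of a free module with given values. -/
noncomputable def ofVals (m : Fin n → M.val.obj (op X)) :
    SheafOfModules.free (R := R) (ULift.{u} (Fin n)) ⟶ M :=
  Sigma.desc fun k => ofSec hX (m k.down)

lemma ofVals_app (m : Fin n → M.val.obj (op X)) (k : Fin n) :
    ((ofVals hX m).val.app (op X)).hom (bas R X n k) = m k := by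
  have e : SheafOfModules.ιFree (R := R) (ULift.up.{u} k) ≫ ofVals hX m = ofSec hX (m k) :=
    Sigma.ι_desc _ _
  exact (congrArg (fun q => (q.val.app (op X)).hom (1 : R.obj.obj (op X))) e).trans (ofSec_app hX (m k))

variable (R X n) in
/-- Coordinates. -/
noncomputable def coords : (SheafOfModules.free (R := R) (ULift.{u} (Fin n))).val.obj (op X) →ₗ[R.obj.obj (op X)]
    (Fin n → R.obj.obj (op X)) :=
  LinearMap.pi fun k => ((proj (R := R) (ULift.up.{u} k)).val.app (op X)).hom

lemma smul_bas (r : R.obj.obj (op X)) (k : Fin n) :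
    ((SheafOfModules.ιFree (R := R) (ULift.up.{u} k)).val.app (op X)).hom r = r • bas R X n k := by
  refine Eq.trans ?_ (((SheafOfModules.ιFree (R := R) (ULift.up.{u} k)).val.app (op X)).hom.map_smul r _)
  exact congrArg _ (mul_one r).symm

lemma sum_coords (x : (SheafOfModules.free (R := R) (ULift.{u} (Fin n))).val.obj (op X)) :
    ∑ k, coords R X n x k • bas R X n k = x := by
  let g : (SheafOfModules.free (R := R) (ULift.{u} (Fin n)) ⟶ SheafOfModules.free (R := R) (ULift.{u} (Fin n))) →+
      (SheafOfModules.free (R := R) (ULift.{u} (Fin n))).val.obj (op X) :=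
    AddMonoidHom.mk' (fun q => (q.val.app (op X)).hom x) fun _ _ => rfl
  have h := congrArg g (free_id (R := R) (ι := ULift.{u} (Fin n)))
  rw [map_sum] at h
  refine Eq.trans ?_ h
  rw [← Equiv.ulift.{u}.sum_comp]
  exact Finset.sum_congr rfl fun k _ => (smul_bas _ k.down).symm

lemma coords_bas (j k : Fin n) :
    coords R X n (bas R X n k) j = if k = j then 1 else 0 := by
  classical
  refine (congrArg (fun q => (q.val.app (op X)).hom (1 : R.obj.obj (op X)))
    (ιFree_proj (R := R) (ULift.up.{u} j) (ULift.up.{u} k))).trans ?_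
  by_cases h : k = j
  · rw [if_pos (congrArg ULift.up h), if_pos h]; rfl
  · rw [if_neg (fun e => h (congrArg ULift.down e)), if_neg h]; rfl

variable (R X n) in
/-- A free module on sections is free. -/
noncomputable def coordsEquiv : (SheafOfModules.free (R := R) (ULift.{u} (Fin n))).val.obj (op X) ≃ₗ[R.obj.obj (op X)]
    (Fin n → R.obj.obj (op X)) :=
  { coords R X n with
    invFun := fun c => ∑ k, c k • bas R X n k
    left_inv := sum_coords
    right_inv := fun c => by
      change coords R X n (∑ k, c k • bas R X n k) = c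
      ext j
      simp [map_sum, map_smul, Finset.sum_apply, coords_bas, mul_ite] }

lemma linearMap_ext {N : Type*} [AddCommGroup N] [Module (R.obj.obj (op X)) N]
    {f g : (SheafOfModules.free (R := R) (ULift.{u} (Fin n))).val.obj (op X) →ₗ[R.obj.obj (op X)] N}
    (h : ∀ k, f (bas R X n k) = g (bas R X n k)) : f = g := by
  ext x
  rw [← sum_coords x]
  simp only [map_sum, map_smul, h]

variable {E E' : SheafOfModules.{u} R}

include hX in
theorem bijective_app (hE : DCoh.IsFinFreeSummandMod R E) :
    Function.Bijective (fun φ : E ⟶ E' => φ.val.app (op X)) := by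
  obtain ⟨n, i, p, hip⟩ := hE
  refine ⟨fun φ φ' h => ?_, fun h => ?_⟩
  · have e : p ≫ φ = p ≫ φ' :=
      free_ext hX fun k => congrArg (fun q => q.hom ((p.val.app (op X)).hom (bas R X n k))) h
    rw [← Category.id_comp φ, ← Category.id_comp φ', ← hip, Category.assoc, Category.assoc, e]
  · refine ⟨i ≫ ofVals hX (fun k => h.hom ((p.val.app (op X)).hom (bas R X n k))), ModuleCat.hom_ext ?_⟩
    have e : ((ofVals hX (fun k => h.hom ((p.val.app (op X)).hom (bas R X n k)))).val.app (op X)).hom =
        h.hom ∘ₗ (p.val.app (op X)).hom := linearMap_ext fun k => ofVals_app hX _ k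
    refine LinearMap.ext fun x => (congrArg (fun l => l ((i.val.app (op X)).hom x)) e).trans ?_
    exact congrArg h.hom (congrArg (fun q => (q.val.app (op X)).hom x) hip)

theorem finite_projective (hE : DCoh.IsFinFreeSummandMod R E) :
    Module.Finite (R.obj.obj (op X)) (E.val.obj (op X)) ∧
      Module.Projective (R.obj.obj (op X)) (E.val.obj (op X)) := by
  obtain ⟨n, i, p, hip⟩ := hE
  let F : (Fin n → R.obj.obj (op X)) →ₗ[R.obj.obj (op X)] E.val.obj (op X) :=
    (p.val.app (op X)).hom ∘ₗ (coordsEquiv R X n).symm.toLinearMap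
  let G : E.val.obj (op X) →ₗ[R.obj.obj (op X)] (Fin n → R.obj.obj (op X)) :=
    (coordsEquiv R X n).toLinearMap ∘ₗ (i.val.app (op X)).hom
  have hFG : F ∘ₗ G = LinearMap.id := by
    ext x
    simp only [F, G, LinearMap.comp_apply, LinearEquiv.coe_coe, LinearEquiv.symm_apply_apply]
    exact congrArg (fun q => (q.val.app (op X)).hom x) hip
  exact ⟨Module.Finite.of_surjective F fun x => ⟨G x, LinearMap.congr_fun hFG x⟩,
    Module.Projective.of_split G F hFG⟩

include hX in
theorem exists_of_projective (M : ModuleCat.{u} (R.obj.obj (op X)))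
    [Module.Finite (R.obj.obj (op X)) M] [Module.Projective (R.obj.obj (op X)) M] :
    ∃ E : SheafOfModules.{u} R, DCoh.IsFinFreeSummandMod R E ∧ Nonempty (E.val.obj (op X) ≅ M) := by
  obtain ⟨n, π, σ, -, -, hπσ⟩ := Module.Finite.exists_comp_eq_id_of_projective (R.obj.obj (op X)) M
  let ε := (coordsEquiv R X n).symm.toLinearMap ∘ₗ σ ∘ₗ π ∘ₗ (coordsEquiv R X n).toLinearMap
  let e := ofVals hX (M := SheafOfModules.free (R := R) (ULift.{u} (Fin n))) fun k => ε (bas R X n k)
  have he : ∀ x, (e.val.app (op X)).hom x = ε x := fun x =>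
    LinearMap.congr_fun (linearMap_ext (f := (e.val.app (op X)).hom) (g := ε) fun k =>
      ofVals_app hX _ k) x
  have hπσ' : ∀ m, π (σ m) = m := fun m => LinearMap.congr_fun hπσ m
  have hee : e ≫ e = e := free_ext hX fun k => by
    refine ((congrArg _ (he _)).trans (he _)).trans (Eq.trans ?_ (he _).symm)
    simp [ε, hπσ']
  obtain ⟨E, i, r, hir, hri⟩ := IsIdempotentComplete.idempotents_split _ e hee
  refine ⟨E, ⟨n, i, r, hir⟩, ⟨LinearEquiv.toModuleIso ?_⟩⟩
  exact LinearEquiv.ofLinearMap (π ∘ₗ (coordsEquiv R X n).toLinearMap ∘ₗ (i.val.app (op X)).hom)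
    ((r.val.app (op X)).hom ∘ₗ (coordsEquiv R X n).symm.toLinearMap ∘ₗ σ)
    (by
      ext m
      have h1 : (i.val.app (op X)).hom ((r.val.app (op X)).hom ((coordsEquiv R X n).symm (σ m))) =
          ε ((coordsEquiv R X n).symm (σ m)) :=
        (congrArg (fun q => (q.val.app (op X)).hom ((coordsEquiv R X n).symm (σ m))) hri).trans (he _)
      refine (congrArg (fun y => π (coordsEquiv R X n y)) h1).trans ?_
      simp [ε, hπσ'])
    (by
      ext x
      have h2 : (r.val.app (op X)).hom ((i.val.app (op X)).hom x) = x :=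
        congrArg (fun q => (q.val.app (op X)).hom x) hir
      have h1 : (i.val.app (op X)).hom x = ε ((i.val.app (op X)).hom x) := by
        rw [← he]
        exact (congrArg (fun q => (q.val.app (op X)).hom ((i.val.app (op X)).hom x)) hri).symm.trans
          (congrArg ((i.val.app (op X)).hom) h2) |>.symm
      refine Eq.trans ?_ h2
      exact congrArg ((r.val.app (op X)).hom) h1.symm)

end Groth.Agent.Lib.StrPerf.Global
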