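import Groth.Agent.Lib.FlatCrit.Factor
import Groth.Agent.Lib.RMorLocal.Mono
import Groth.Agent.Lib.Modules.ToSheaf
import Groth.Prelude.Def_AlgSpPerf

/-!
# Local lifting of maps out of summands of finite free modules
-/

set_option linter.style.haveILetI false

universe u

open CategoryTheory Limits Opposite

namespace Groth.Agent.Lib.StrPerf.Lift

open Groth.Agent.Lib.FlatCrit Groth.Agent.Lib.FlatCrit.Factor Groth.Agent.Lib.ModTensor.Local

variable {C : Type u} [SmallCategory C] {J : GrothendieckTopology C} {O : Sheaf J CommRingCat.{u}}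

/-- Restriction to an object. -/
noncomputable abbrev T (X : C) :
    _root_.ModSite.Mod O ⥤ SheafOfModules.{u} ((_root_.ModSite.ringSh O).over X) :=
  SheafOfModules.overFunctor.{u} (_root_.ModSite.ringSh O) X

instance additive_T (X : C) : (T (O := O) X).Additive := ⟨fun {_ _ _ _} => rfl⟩

/-- Restriction of a morphism along an arrow. -/
noncomputable def rst {X W : C} (v : W ⟶ X) {A B : _root_.ModSite.Mod O}
    (χ : (T X).obj A ⟶ (T X).obj B) : (T W).obj A ⟶ (T W).obj B :=
  (SheafOfModules.overFunctorMap.{u} (_root_.ModSite.ringSh O) v).inv.app A ≫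
    (SheafOfModules.overMap.{u} (_root_.ModSite.ringSh O) v).map χ ≫
      (SheafOfModules.overFunctorMap.{u} (_root_.ModSite.ringSh O) v).hom.app B

lemma rst_add {X W : C} (v : W ⟶ X) {A B : _root_.ModSite.Mod O}
    (χ χ' : (T X).obj A ⟶ (T X).obj B) : rst v (χ + χ') = rst v χ + rst v χ' := by
  simp only [rst, Functor.map_add, Preadditive.add_comp, Preadditive.comp_add]

lemma rst_zero {X W : C} (v : W ⟶ X) {A B : _root_.ModSite.Mod O} :
    rst v (0 : (T X).obj A ⟶ (T X).obj B) = 0 := by
  simp only [rst, Functor.map_zero, zero_comp, comp_zero]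

lemma rst_map {X W : C} (v : W ⟶ X) {A B : _root_.ModSite.Mod O} (φ : A ⟶ B) :
    rst v ((T X).map φ) = (T W).map φ :=
  NatIso.naturality_1 (SheafOfModules.overFunctorMap.{u} (_root_.ModSite.ringSh O) v) φ

lemma rst_comp {X W : C} (v : W ⟶ X) {A B B' : _root_.ModSite.Mod O}
    (χ : (T X).obj A ⟶ (T X).obj B) (χ' : (T X).obj B ⟶ (T X).obj B') :
    rst v (χ ≫ χ') = rst v χ ≫ rst v χ' := by
  simp only [rst, Functor.map_comp, Category.assoc, Iso.hom_inv_id_app_assoc]

/-- The value of a map at a section over the terminal object. -/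
noncomputable def app1 {X : C} {A B : _root_.ModSite.Mod O} (χ : (T X).obj A ⟶ (T X).obj B)
    (a : _root_.ModSite.sect A X) : _root_.ModSite.sect B X :=
  (χ.val.app (op (Over.mk (𝟙 X)))).hom a

lemma app1_map {X : C} {A B : _root_.ModSite.Mod O} (φ : A ⟶ B) (a : _root_.ModSite.sect A X) :
    app1 ((T X).map φ) a = (φ.val.app (op X)).hom a := rfl

lemma app1_rst {X W : C} (v : W ⟶ X) {A B : _root_.ModSite.Mod O}
    (χ : (T X).obj A ⟶ (T X).obj B) (a : _root_.ModSite.sect A X) :
    app1 (rst v χ) (res (R := O.obj) A.val v.op a) = res (R := O.obj) B.val v.op (app1 χ a) := by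
  have h := PresheafOfModules.naturality_apply χ.val
    (Over.homMk ((Over.map v).obj (Over.mk (𝟙 W))).hom :
      (Over.map v).obj (Over.mk (𝟙 W)) ⟶ Over.mk (𝟙 X)).op a
  have ea := map_homMk v (H := A) a
  have eb := map_homMk v (H := B) (app1 χ a)
  exact ((congrArg (χ.val.app (op ((Over.map v).obj (Over.mk (𝟙 W))))).hom ea).symm.trans h).trans eb

variable (n : ℕ)

/-- The basis sections of a free module. -/
noncomputable def bs (k : Fin n) (X : C) :
    _root_.ModSite.sect (SheafOfModules.free (R := _root_.ModSite.ringSh O) (ULift.{u} (Fin n))) X :=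
  ((SheafOfModules.ιFree (ULift.up k)).val.app (op X)).hom
    (1 : (_root_.ModSite.ringSh O).obj.obj (op X))

lemma res_bs (k : Fin n) {X W : C} (v : W ⟶ X) :
    res (R := O.obj) (SheafOfModules.free (R := _root_.ModSite.ringSh O) (ULift.{u} (Fin n))).val v.op
      (bs n k X) = bs n k W := by
  refine (PresheafOfModules.naturality_apply
    (SheafOfModules.ιFree (R := _root_.ModSite.ringSh O) (ULift.up.{u} k)).val v.op
    (1 : (_root_.ModSite.ringSh O).obj.obj (op X))).symm.trans ?_
  exact congrArg ((SheafOfModules.ιFree (ULift.up k)).val.app (op W)).hom (map_one (O.obj.map v.op).hom)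

variable {n}

lemma free_hom_ext {X : C} {B : _root_.ModSite.Mod O}
    {χ χ' : (T X).obj (SheafOfModules.free (R := _root_.ModSite.ringSh O) (ULift.{u} (Fin n))) ⟶ (T X).obj B}
    (h : ∀ k, app1 χ (bs n k X) = app1 χ' (bs n k X)) : χ = χ' := by
  rw [← comp_free_id (T X) χ, ← comp_free_id (T X) χ']
  refine Finset.sum_congr rfl fun k _ => congrArg _ ?_
  exact el_injective (M := (T X).obj B) (h k.down)

/-- The map out of a free module with given values. -/
noncomputable def ofVals {X : C} {B : _root_.ModSite.Mod O} (m : Fin n → _root_.ModSite.sect B X) :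
    (T X).obj (SheafOfModules.free (R := _root_.ModSite.ringSh O) (ULift.{u} (Fin n))) ⟶ (T X).obj B :=
  ∑ k : ULift.{u} (Fin n), (T X).map (proj k) ≫ ofEl (M := (T X).obj B) (m k.down)

lemma app1_ofVals {X : C} {B : _root_.ModSite.Mod O} (m : Fin n → _root_.ModSite.sect B X) (k : Fin n) :
    app1 (ofVals m) (bs n k X) = m k := by
  classical
  have e : ((T X).map (SheafOfModules.ιFree (ULift.up k)) :
      SheafOfModules.unit ((_root_.ModSite.ringSh O).over X) ⟶ _) ≫ ofVals m =
      ofEl (M := (T X).obj B) (m k) := by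
    rw [ofVals, Preadditive.comp_sum]
    refine (Finset.sum_eq_single (ULift.up k) ?_ ?_).trans ?_
    · intro i _ hi
      rw [← Functor.map_comp_assoc, ιFree_proj, if_neg (Ne.symm hi), Functor.map_zero, zero_comp]
    · exact fun h => absurd (Finset.mem_univ _) h
    · rw [← Functor.map_comp_assoc, ιFree_proj, if_pos rfl, (T X).map_id, Category.id_comp]
  refine Eq.trans ?_ ((congrArg (el (M := (T X).obj B)) e).trans (el_ofEl (M := (T X).obj B) (m k)))
  rfl

/-- Sections killed by `g` lift locally along an exact sequence. -/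
theorem exists_cover_lift_exact (S : ShortComplex (_root_.ModSite.Mod O)) (hS : S.Exact) {X : C}
    (s : Fin n → _root_.ModSite.sect S.X₂ X) (hs : ∀ k, (S.g.val.app (op X)).hom (s k) = 0) :
    ∃ R ∈ J X, ∀ ⦃W : C⦄ (v : W ⟶ X), R v → ∃ t : Fin n → _root_.ModSite.sect S.X₁ W,
      ∀ k, (S.f.val.app (op W)).hom (t k) = res (R := O.obj) S.X₂.val v.op (s k) := by
  let q := kernel.lift S.g S.f S.zero
  haveI : Epi q := S.exact_iff_epi_kernel_lift.1 hS
  haveI := (ModTensor.Monoidal.adj.{u, u, u} O).isRightAdjoint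
  haveI : PreservesFiniteLimits (Iff.ev O (op X)) := inferInstance
  haveI : (Iff.ev O (op X)).Additive := Functor.additive_of_preserves_binary_products _
  have hex : ((ShortComplex.mk (kernel.ι S.g) S.g (kernel.condition _)).map (Iff.ev O (op X))).Exact :=
    (ShortComplex.exact_of_f_is_kernel _ (kernelIsKernel S.g)).map_of_mono_of_preservesKernel _
      inferInstance inferInstance
  choose z hz using fun k => (ShortComplex.ab_exact_iff _).1 hex (s k) (hs k)
  haveI : Epi ((SheafOfModules.toSheaf (_root_.ModSite.ringSh O)).map q) := inferInstance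
  haveI : PresheafOfModules.IsLocallySurjective J ((ModTensor.Monoidal.G.{u, u, u} O).map q) :=
    (Sheaf.isLocallySurjective_iff_epi'
      (φ := (SheafOfModules.toSheaf (_root_.ModSite.ringSh O)).map q)).2 inferInstance
  obtain ⟨R, hR, hlift⟩ := exists_cover_lift J (R := O.obj) ((ModTensor.Monoidal.G.{u, u, u} O).map q)
    (X := op X) z
  refine ⟨R, hR, fun W v hv => ?_⟩
  obtain ⟨t, ht⟩ := hlift v hv
  refine ⟨t, fun k => ?_⟩
  refine (congrArg (fun r => (r.val.app (op W)).hom (t k)) (kernel.lift_ι S.g S.f S.zero).symm).trans ?_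
  refine (congrArg ((kernel.ι S.g).val.app (op W)).hom (ht k)).trans ?_
  exact (res_app (R := O.obj) (kernel.ι S.g).val v.op (z k)).trans (congrArg _ (hz k))

/-- A map out of a summand of a finite free module lifts locally along an exact sequence. -/
theorem exists_lift {E : _root_.ModSite.Mod O} (hE : DCoh.IsFinFreeSummandMod (_root_.ModSite.ringSh O) E)
    (S : ShortComplex (_root_.ModSite.Mod O)) (hS : S.Exact) {X : C}
    (χ : (T X).obj E ⟶ (T X).obj S.X₂) (hχ : χ ≫ (T X).map S.g = 0) :
    ∃ R ∈ J X, ∀ ⦃W : C⦄ (v : W ⟶ X), R v →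
      ∃ l : (T W).obj E ⟶ (T W).obj S.X₁, l ≫ (T W).map S.f = rst v χ := by
  obtain ⟨n, i, p, hip⟩ := hE
  obtain ⟨R, hR, hlift⟩ := exists_cover_lift_exact S hS
    (fun k => app1 ((T X).map p ≫ χ) (bs n k X)) (fun k => by
      refine (show (S.g.val.app (op X)).hom (app1 ((T X).map p ≫ χ) (bs n k X)) =
        app1 (((T X).map p ≫ χ) ≫ (T X).map S.g) (bs n k X) from rfl).trans ?_
      rw [Category.assoc, hχ, comp_zero]
      rfl)
  refine ⟨R, hR, fun W v hv => ?_⟩
  obtain ⟨t, ht⟩ := hlift v hv
  refine ⟨(T W).map i ≫ ofVals t, ?_⟩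
  have e : ofVals t ≫ (T W).map S.f = rst v ((T X).map p ≫ χ) := free_hom_ext fun k => by
    refine (show app1 (ofVals t ≫ (T W).map S.f) (bs n k W) =
      (S.f.val.app (op W)).hom (app1 (ofVals t) (bs n k W)) from rfl).trans ?_
    rw [app1_ofVals, ht k, ← app1_rst v, res_bs]
  rw [Category.assoc, e, rst_comp, rst_map, ← Category.assoc, ← Functor.map_comp, hip,
    (T W).map_id, Category.id_comp]

end Groth.Agent.Lib.StrPerf.Lift
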