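import Groth.Agent.Lib.StrPerf.Lift
import Mathlib.Algebra.Homology.Refinements
import Mathlib.Algebra.Homology.HomotopyCategory.MappingCone

/-!
# Maps from strictly perfect complexes to acyclic complexes are locally null homotopic
-/

set_option linter.style.haveILetI false

universe u

open CategoryTheory Limits Opposite

namespace Groth.Agent.Lib.StrPerf.Null

open Groth.Agent.Lib.StrPerf.Lift

/-- The mapping cone is exact where the map is an iso above and epi in this degree. -/
theorem exactAt_cone {A : Type*} [Category A] [Abelian A] {G F : CochainComplex A ℤ} (f : G ⟶ F)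
    [HasBinaryBiproducts A]
    (i j k : ℤ) (hij : i + 1 = j) (hjk : j + 1 = k)
    (hepi : Epi (HomologicalComplex.homologyMap f j)) (hmono : Mono (HomologicalComplex.homologyMap f k)) :
    (CochainComplex.mappingCone f).ExactAt j := by
  have hprev : ∀ a b : ℤ, a + 1 = b → (ComplexShape.up ℤ).prev b = a := fun a b h =>
    (ComplexShape.up ℤ).prev_eq' h
  have hnext : ∀ a b : ℤ, a + 1 = b → (ComplexShape.up ℤ).next a = b := fun a b h =>
    (ComplexShape.up ℤ).next_eq' h
  rw [(CochainComplex.mappingCone f).exactAt_iff_exact_up_to_refinements i j k (hprev i j hij)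
    (hnext j k hjk)]
  intro B x hx
  let g₀ : B ⟶ G.X k := x ≫ (CochainComplex.mappingCone.fst f).1.v j k hjk
  let y : B ⟶ F.X j := x ≫ (CochainComplex.mappingCone.snd f).v j j (add_zero j)
  have hg₀ : g₀ ≫ G.d k (k + 1) = 0 := by
    have h := congrArg (· ≫ (CochainComplex.mappingCone.fst f).1.v k (k + 1) rfl) hx
    simp only [Category.assoc, zero_comp, CochainComplex.mappingCone.d_fst_v f j k (k + 1) hjk rfl,
      Preadditive.neg_comp, Preadditive.comp_neg, neg_eq_zero] at h
    simpa [g₀] using h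
  have hy : g₀ ≫ f.f k + y ≫ F.d j k = 0 := by
    have h := congrArg (· ≫ (CochainComplex.mappingCone.snd f).v k k (add_zero k)) hx
    simp only [Category.assoc, zero_comp, CochainComplex.mappingCone.d_snd_v f j k hjk,
      Preadditive.comp_add] at h
    simpa [g₀, y] using h
  obtain ⟨B₁, π₁, hπ₁, z, hz⟩ := (HomologicalComplex.mono_homologyMap_iff_up_to_refinements (φ := f)
    j k (k + 1) (hprev j k hjk) (hnext k (k + 1) rfl)).1 hmono g₀ hg₀ (-y)
      (by rw [Preadditive.neg_comp]; exact eq_neg_of_add_eq_zero_left hy)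
  have hy' : (π₁ ≫ y + z ≫ f.f j) ≫ F.d j k = 0 := by
    rw [Preadditive.add_comp, Category.assoc z, f.comm, ← Category.assoc z, ← hz,
      Category.assoc π₁ y, Category.assoc π₁ g₀, ← Preadditive.comp_add, add_comm, hy, comp_zero]
  obtain ⟨B₂, π₂, hπ₂, w, hw, v, hv⟩ := (HomologicalComplex.epi_homologyMap_iff_up_to_refinements (φ := f)
    i j k (hprev i j hij) (hnext j k hjk)).1 hepi (π₁ ≫ y + z ≫ f.f j) hy'
  refine ⟨B₂, π₂ ≫ π₁, inferInstance,
    (w - π₂ ≫ z) ≫ (CochainComplex.mappingCone.inl f).v j i (by omega) +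
      v ≫ (CochainComplex.mappingCone.inr f).f i, ?_⟩
  apply CochainComplex.mappingCone.ext_to f j k hjk
  · simp only [Category.assoc, Preadditive.add_comp,
      CochainComplex.mappingCone.d_fst_v f i j k hij hjk, Preadditive.neg_comp, Preadditive.comp_neg,
      CochainComplex.mappingCone.inr_f_fst_v_assoc, CochainComplex.mappingCone.inl_v_fst_v_assoc,
      zero_comp, comp_zero, neg_zero, add_zero, Preadditive.sub_comp, hw, zero_sub, neg_neg]
    exact congrArg (π₂ ≫ ·) hz
  · simp only [Category.assoc, Preadditive.add_comp,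
      CochainComplex.mappingCone.d_snd_v f i j hij, Preadditive.comp_add,
      CochainComplex.mappingCone.inr_f_fst_v_assoc, CochainComplex.mappingCone.inl_v_fst_v_assoc,
      CochainComplex.mappingCone.inr_f_snd_v_assoc, CochainComplex.mappingCone.inl_v_snd_v_assoc,
      zero_comp, comp_zero, add_zero, zero_add, Preadditive.sub_comp]
    simp only [Preadditive.comp_add] at hv
    rw [sub_add_eq_add_sub, eq_sub_iff_add_eq]
    exact hv

variable {C : Type u} [SmallCategory C] {J : GrothendieckTopology C} {O : Sheaf J CommRingCat.{u}}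
  {E M : CochainComplex (_root_.ModSite.Mod O) ℤ} (χ : E ⟶ M)

/-- A partial null homotopy above a degree. -/
def Partial (W : C) (m : ℤ) : Prop :=
  ∃ s : ∀ p q : ℤ, (T W).obj (E.X p) ⟶ (T W).obj (M.X q), ∀ i j k : ℤ, i + 1 = j → j + 1 = k → m < j →
    (T W).map (χ.f j) = (T W).map (E.d j k) ≫ s k j + s j i ≫ (T W).map (M.d i j)

variable (E M) in
/-- The data. -/
theorem exists_partial (hE : ∀ i, DCoh.IsFinFreeSummandMod (_root_.ModSite.ringSh O) (E.X i))
    (a b : ℤ) (hEa : ∀ i, i < a → IsZero (E.X i)) (hEb : ∀ i, b < i → IsZero (E.X i))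
    (hM : ∀ j, a ≤ j → M.ExactAt j) : ∀ (k : ℕ) (V : C), ∃ R ∈ J V, ∀ ⦃W : C⦄ (g : W ⟶ V), R g →
      Partial χ W (b - k) := by
  intro k
  induction k with
  | zero =>
    intro V
    refine ⟨⊤, J.top_mem V, fun W g _ => ⟨fun _ _ => 0, fun i j l hij hjl hj => ?_⟩⟩
    exact ((T W).map_isZero (hEb j (by simpa using hj))).eq_of_src _ _
  | succ k ih =>
    intro V
    obtain ⟨R, hR, hp⟩ := ih V
    let T' : Sieve V :=
      { arrows := fun W g => Partial χ W (b - (k + 1 : ℕ))
        downward_closed := by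
          rintro Y Z g ⟨s, hs⟩ h
          refine ⟨fun p q => rst h (s p q), fun i j l hij hjl hj => ?_⟩
          rw [← rst_map h (χ.f j), hs i j l hij hjl hj, rst_add, rst_comp, rst_comp, rst_map, rst_map] }
    refine ⟨T', J.transitive hR _ (fun Y g hg => ?_), fun W g hg => hg⟩
    obtain ⟨s, hs⟩ := hp g hg
    let m : ℤ := b - k
    have hm : m - 1 + 1 = m := by omega
    rcases lt_or_ge m a with hma | hma
    · refine J.superset_covering (fun Z h _ => ⟨fun p q => rst h (s p q), fun i j l hij hjl hj => ?_⟩)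
        (J.top_mem Y)
      rcases eq_or_lt_of_le (show m ≤ j by simp only [m]; push_cast at hj; omega) with rfl | hj'
      · exact ((T Z).map_isZero (hEa m hma)).eq_of_src _ _
      · rw [← rst_map h (χ.f j), hs i j l hij hjl hj', rst_add, rst_comp, rst_comp, rst_map, rst_map]
    have hγ : ((T Y).map (χ.f m) - (T Y).map (E.d m (m + 1)) ≫ s (m + 1) m) ≫
        (T Y).map (M.d m (m + 1)) = 0 := by
      have h := hs m (m + 1) (m + 1 + 1) rfl rfl (by omega)
      rw [Preadditive.sub_comp, ← Functor.map_comp, χ.comm, Functor.map_comp, Category.assoc,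
        ← Preadditive.comp_sub, h, add_sub_cancel_right, ← Functor.map_comp_assoc, E.d_comp_d,
        Functor.map_zero, zero_comp]
    obtain ⟨S, hS, hl⟩ := exists_lift (hE m) (M.sc' (m - 1) m (m + 1))
      ((M.exactAt_iff' (m - 1) m (m + 1) ((ComplexShape.up ℤ).prev_eq' hm)
        ((ComplexShape.up ℤ).next_eq' rfl)).1 (hM m hma)) _ hγ
    refine J.superset_covering (fun Z h hh => ?_) hS
    obtain ⟨l₀, hl⟩ := hl h hh
    let l : (T Z).obj (E.X m) ⟶ (T Z).obj (M.X (m - 1)) := l₀
    replace hl : l ≫ (T Z).map (M.d (m - 1) m) =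
        (T Z).map (χ.f m) - (T Z).map (E.d m (m + 1)) ≫ rst h (s (m + 1) m) := by
      refine hl.trans ?_
      refine (map_sub (AddMonoidHom.mk' (rst h (A := E.X m) (B := M.X m)) (rst_add h)) _ _).trans ?_
      simp only [AddMonoidHom.mk'_apply, rst_comp, rst_map]
    refine ⟨fun p q => if hpq : p = m ∧ q = m - 1 then
      eqToHom (by rw [hpq.1]) ≫ l ≫ eqToHom (by rw [hpq.2]) else rst h (s p q),
      fun i j n hij hjn hj => ?_⟩
    beta_reduce
    rw [dif_neg (by simp only [m]; push_cast at hj; omega)]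
    rcases eq_or_lt_of_le (show m ≤ j by simp only [m]; push_cast at hj; omega) with rfl | hj'
    · obtain rfl : i = m - 1 := by omega
      obtain rfl : n = m + 1 := by omega
      rw [dif_pos ⟨rfl, rfl⟩]
      simp only [eqToHom_refl, Category.id_comp, Category.comp_id]
      rw [hl, add_sub_cancel]
    · rw [dif_neg (by omega), ← rst_map h (χ.f j), hs i j n hij hjn hj', rst_add, rst_comp, rst_comp,
        rst_map, rst_map]

variable (E M) in
/-- Locally there is a null homotopy, componentwise. -/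
theorem exists_null (hE : ∀ i, DCoh.IsFinFreeSummandMod (_root_.ModSite.ringSh O) (E.X i))
    (a b : ℤ) (hEa : ∀ i, i < a → IsZero (E.X i)) (hEb : ∀ i, b < i → IsZero (E.X i))
    (hM : ∀ j, a ≤ j → M.ExactAt j) (V : C) :
    ∃ R ∈ J V, ∀ ⦃W : C⦄ (g : W ⟶ V), R g →
      ∃ s : ∀ p q : ℤ, (T W).obj (E.X p) ⟶ (T W).obj (M.X q), ∀ i j k : ℤ, i + 1 = j → j + 1 = k →
        (T W).map (χ.f j) = (T W).map (E.d j k) ≫ s k j + s j i ≫ (T W).map (M.d i j) := by
  obtain ⟨R, hR, hp⟩ := exists_partial E M χ hE a b hEa hEb hM (b - a + 1).toNat V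
  refine ⟨R, hR, fun W g hg => ?_⟩
  obtain ⟨s, hs⟩ := hp g hg
  refine ⟨s, fun i j k hij hjk => ?_⟩
  rcases lt_or_ge j a with hja | hja
  · exact ((T W).map_isZero (hEa j hja)).eq_of_src _ _
  · exact hs i j k hij hjk (by omega)

end Groth.Agent.Lib.StrPerf.Null
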